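import Groth.Agent.Lib.Dim.Ring
import Mathlib.Algebra.MvPolynomial.Monad
import Mathlib.Algebra.MvPolynomial.Equiv
import Mathlib.Topology.Spectral.ConstructibleTopology
import Mathlib.RingTheory.Spectrum.Prime.Topology
import Mathlib.RingTheory.LocalRing.ResidueField.Fiber
import Mathlib.RingTheory.KrullDimension.Polynomial
import Mathlib.RingTheory.QuasiFinite.Basic
import Mathlib.RingTheory.RingHom.QuasiFinite
import Mathlib.RingTheory.IntegralClosure.Algebra.Basic
import Mathlib.Data.Nat.Digits.Lemmas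

/-!
# Weak relative Noether normalisation
-/

set_option autoImplicit false
set_option linter.all false
set_option backward.isDefEq.respectTransparency false

universe u

open TensorProduct

namespace GrothLib.RelNoether10

theorem weight_injective {n N : ℕ} (v w : Fin (n + 1) →₀ ℕ) (hv : ∀ i, v i < N) (hw : ∀ i, w i < N)
    (h : ∑ i : Fin (n + 1), N ^ (i : ℕ) * v i = ∑ i : Fin (n + 1), N ^ (i : ℕ) * w i) : v = w := by
  rcases Nat.lt_or_ge 1 N with hN | hN
  · refine Finsupp.ext (congrFun (List.ofFn_inj.mp ?_))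
    apply Nat.ofDigits_inj_of_len_eq hN (by simp)
      (fun l hl => by obtain ⟨i, rfl⟩ := List.mem_ofFn.1 hl; exact hv i)
      (fun l hl => by obtain ⟨i, rfl⟩ := List.mem_ofFn.1 hl; exact hw i)
    simpa only [Nat.ofDigits_eq_sum_mapIdx, List.mapIdx_eq_ofFn, List.get_ofFn, List.length_ofFn,
      Fin.val_cast, mul_comm, List.sum_ofFn] using! h
  · refine Finsupp.ext fun i => ?_
    have h1 := hv i
    have h2 := hw i
    omega

section Monic

open Polynomial

theorem isUnit_leadingCoeff_eval₂ {K : Type u} [Field K] {n N : ℕ} (f : MvPolynomial (Fin (n + 1)) K) (hf : f ≠ 0)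
    (hN : ∀ v ∈ f.support, ∀ i, v i < N) :
    IsUnit (f.eval₂ ((Polynomial.C : MvPolynomial (Fin n) K →+* _).comp MvPolynomial.C)
      (Fin.cons Polynomial.X fun i => Polynomial.C (MvPolynomial.X i) + Polynomial.X ^ N ^ ((i : ℕ) + 1))).leadingCoeff := by
  classical
  set g : Fin (n + 1) → Polynomial (MvPolynomial (Fin n) K) :=
    Fin.cons Polynomial.X fun i => Polynomial.C (MvPolynomial.X i) + Polynomial.X ^ N ^ ((i : ℕ) + 1) with hgdef
  have hg : ∀ i, (g i).Monic ∧ (g i).natDegree = N ^ (i : ℕ) := by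
    refine Fin.cases ?_ fun j => ?_
    · simp [hgdef]
    · have hpos : 0 < N ^ ((j : ℕ) + 1) := by
        obtain ⟨v, hv⟩ := MvPolynomial.support_nonempty.mpr hf
        exact Nat.pow_pos ((Nat.zero_le _).trans_lt (hN v hv 0))
      simp only [hgdef, Fin.cons_succ, Fin.val_succ]
      rw [add_comm]
      exact ⟨Polynomial.monic_X_pow_add_C _ hpos.ne', Polynomial.natDegree_X_pow_add_C⟩
  let W : (Fin (n + 1) →₀ ℕ) → ℕ := fun v => ∑ i : Fin (n + 1), N ^ (i : ℕ) * v i
  let P : (Fin (n + 1) →₀ ℕ) → Polynomial (MvPolynomial (Fin n) K) := fun v => ∏ i, g i ^ v i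
  have hP : ∀ v, (P v).Monic ∧ (P v).natDegree = W v := fun v => by
    refine ⟨Polynomial.monic_prod_of_monic _ _ fun i _ => (hg i).1.pow _, ?_⟩
    rw [Polynomial.natDegree_prod_of_monic _ _ fun i _ => (hg i).1.pow _]
    exact Finset.sum_congr rfl fun i _ => by rw [(hg i).1.natDegree_pow, (hg i).2, mul_comm]
  obtain ⟨v, hv, hmax⟩ := Finset.exists_max_image f.support W (MvPolynomial.support_nonempty.mpr hf)
  have hlt : ∀ w ∈ f.support.erase v, W w < W v := fun w hw => by
    refine lt_of_le_of_ne (hmax w (Finset.mem_of_mem_erase hw)) fun h => Finset.ne_of_mem_erase hw ?_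
    exact weight_injective w v (hN w (Finset.mem_of_mem_erase hw)) (hN v hv) h
  have hF : f.eval₂ ((Polynomial.C : MvPolynomial (Fin n) K →+* _).comp MvPolynomial.C) g =
      ∑ w ∈ f.support, Polynomial.C (MvPolynomial.C (f.coeff w)) * P w := by
    rw [MvPolynomial.eval₂_eq']
    rfl
  have hcne : (MvPolynomial.C (f.coeff v) : MvPolynomial (Fin n) K) ≠ 0 := by
    rw [Ne, MvPolynomial.C_eq_zero]; exact MvPolynomial.mem_support_iff.1 hv
  have hdeg : (Polynomial.C (MvPolynomial.C (f.coeff v) : MvPolynomial (Fin n) K) * P v).degree = (W v : WithBot ℕ) := by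
    rw [Polynomial.degree_C_mul hcne, Polynomial.degree_eq_natDegree (hP v).1.ne_zero, (hP v).2]
  rw [hF, ← Finset.add_sum_erase _ _ hv, add_comm, Polynomial.leadingCoeff_add_of_degree_lt,
    Polynomial.leadingCoeff_mul, Polynomial.leadingCoeff_C, (hP v).1.leadingCoeff, mul_one]
  · exact (MvPolynomial.mem_support_iff.1 hv).isUnit.map MvPolynomial.C
  · refine (Polynomial.degree_sum_le _ _).trans_lt ?_
    rw [hdeg]
    refine (Finset.sup_lt_iff (WithBot.bot_lt_coe _)).2 fun w hw => ?_
    refine lt_of_le_of_lt (Polynomial.degree_mul_le _ _) ?_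
    refine lt_of_le_of_lt (add_le_add Polynomial.degree_C_le le_rfl) ?_
    rw [zero_add, Polynomial.degree_eq_natDegree (hP w).1.ne_zero, (hP w).2]
    exact WithBot.coe_lt_coe.2 (hlt w hw)

theorem isIntegral_substitution {K A : Type u} [Field K] [CommRing A] [Algebra K A] {n N : ℕ}
    (a : Fin (n + 1) → A) (hfin : (MvPolynomial.aeval a : _ →ₐ[K] A).toRingHom.IsIntegral)
    (f : MvPolynomial (Fin (n + 1)) K) (hf : f ≠ 0) (hN : ∀ v ∈ f.support, ∀ i, v i < N)
    (hfa : MvPolynomial.aeval a f = 0) :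
    (MvPolynomial.aeval fun i : Fin n => a i.succ - a 0 ^ N ^ ((i : ℕ) + 1) : _ →ₐ[K] A).toRingHom.IsIntegral := by
  let ψ : MvPolynomial (Fin n) K →ₐ[K] A := MvPolynomial.aeval fun i => a i.succ - a 0 ^ N ^ ((i : ℕ) + 1)
  letI := ψ.toRingHom.toAlgebra
  have hψ : ∀ p, algebraMap (MvPolynomial (Fin n) K) A p = ψ p := fun p => rfl
  haveI : IsScalarTower K (MvPolynomial (Fin n) K) A :=
    IsScalarTower.of_algebraMap_eq fun x => (ψ.commutes x).symm
  let ev : Polynomial (MvPolynomial (Fin n) K) →ₐ[MvPolynomial (Fin n) K] A := Polynomial.aeval (a 0)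
  let g : Fin (n + 1) → Polynomial (MvPolynomial (Fin n) K) :=
    Fin.cons Polynomial.X fun i => Polynomial.C (MvPolynomial.X i) + Polynomial.X ^ N ^ ((i : ℕ) + 1)
  let G := f.eval₂ ((Polynomial.C : MvPolynomial (Fin n) K →+* _).comp MvPolynomial.C) g
  have h0 : ev G = 0 := by
    show ev.toRingHom G = 0
    rw [MvPolynomial.eval₂_comp_left, ← hfa, MvPolynomial.aeval_def]
    refine congrArg₂ (fun r v => MvPolynomial.eval₂ r v f) (RingHom.ext fun c => ?_) (funext fun i => ?_)
    · show ev (Polynomial.C (MvPolynomial.C c)) = algebraMap K A c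
      rw [Polynomial.aeval_C, hψ]
      exact ψ.commutes c
    · refine Fin.cases ?_ (fun j => ?_) i
      · show ev (g 0) = a 0
        simp [g, ev]
      · show ev (g j.succ) = a j.succ
        simp [g, ev, hψ, ψ]
  have ha0 : IsIntegral (MvPolynomial (Fin n) K) (a 0) := by
    have hu := isUnit_leadingCoeff_eval₂ f hf hN
    refine ⟨hu.unit⁻¹ • G, Polynomial.monic_of_isUnit_leadingCoeff_inv_smul hu, ?_⟩
    show ev (_ • G) = 0
    rw [Units.smul_def, map_smul, h0, smul_zero]
  intro x
  have hall : ∀ i, IsIntegral (MvPolynomial (Fin n) K) (a i) := by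
    refine Fin.cases ha0 fun j => ?_
    have : a j.succ = algebraMap (MvPolynomial (Fin n) K) A (MvPolynomial.X j) + a 0 ^ N ^ ((j : ℕ) + 1) := by
      rw [hψ]; simp [ψ]
    rw [this]
    exact isIntegral_algebraMap.add (ha0.pow _)
  let C' := integralClosure (MvPolynomial (Fin n) K) A
  have hrange : ∀ p : MvPolynomial (Fin (n + 1)) K, MvPolynomial.aeval a p ∈ C' := fun p => by
    induction p using MvPolynomial.induction_on with
    | C c =>
      rw [MvPolynomial.aeval_C, IsScalarTower.algebraMap_apply K (MvPolynomial (Fin n) K) A]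
      exact isIntegral_algebraMap
    | add p q hp hq => rw [map_add]; exact add_mem hp hq
    | mul_X p i hp => rw [map_mul, MvPolynomial.aeval_X]; exact mul_mem hp (hall i)
  show IsIntegral (MvPolynomial (Fin n) K) x
  obtain ⟨q, hq, hq0⟩ := hfin x
  let l : MvPolynomial (Fin (n + 1)) K →+* C' :=
    (MvPolynomial.aeval a : _ →ₐ[K] A).toRingHom.codRestrict C' hrange
  have hxC : IsIntegral C' x := ⟨q.map l, hq.map _, by
    rw [Polynomial.eval₂_map]; exact hq0⟩
  exact isIntegral_trans x hxC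

end Monic

variable {R S : Type u} [CommRing R] [CommRing S] [Algebra R S]

/-- The map of a fibre. -/
noncomputable def fib {n : ℕ} (φ : MvPolynomial (Fin n) R →ₐ[R] S) (p : PrimeSpectrum R) :
    MvPolynomial (Fin n) p.asIdeal.ResidueField →ₐ[p.asIdeal.ResidueField] p.asIdeal.Fiber S :=
  MvPolynomial.aeval fun i => 1 ⊗ₜ φ (MvPolynomial.X i)

theorem fib_map {n : ℕ} (φ : MvPolynomial (Fin n) R →ₐ[R] S) (p : PrimeSpectrum R)
    (f : MvPolynomial (Fin n) R) :
    fib φ p (MvPolynomial.map (algebraMap R p.asIdeal.ResidueField) f) = 1 ⊗ₜ φ f := by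
  induction f using MvPolynomial.induction_on with
  | C c =>
    rw [MvPolynomial.map_C, ← MvPolynomial.algebraMap_eq, AlgHom.commutes, ← MvPolynomial.algebraMap_eq,
      AlgHom.commutes, ← IsScalarTower.algebraMap_apply]
    show _ = (Algebra.TensorProduct.includeRight : S →ₐ[R] p.asIdeal.Fiber S) (algebraMap R S c)
    rw [AlgHom.commutes]
  | add f g hf hg => rw [map_add, map_add, hf, hg, map_add, TensorProduct.tmul_add]
  | mul_X f i hf =>
    rw [map_mul, map_mul, hf, MvPolynomial.map_X, map_mul, fib, MvPolynomial.aeval_X,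
      Algebra.TensorProduct.tmul_mul_tmul, one_mul]

theorem exists_unit_mul_mem_range {σ : Type} (p : Ideal R) [p.IsPrime]
    (f : MvPolynomial σ p.ResidueField) :
    ∃ (c : p.ResidueField) (g : MvPolynomial σ R), c ≠ 0 ∧
      MvPolynomial.C c * f = MvPolynomial.map (algebraMap R p.ResidueField) g := by
  induction f using MvPolynomial.induction_on' with
  | monomial v a =>
    obtain ⟨x, y, hy, e⟩ := IsFractionRing.div_surjective (A := R ⧸ p) a
    obtain ⟨x, rfl⟩ := Ideal.Quotient.mk_surjective x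
    obtain ⟨y, rfl⟩ := Ideal.Quotient.mk_surjective y
    have hy0 : algebraMap (R ⧸ p) p.ResidueField (Ideal.Quotient.mk p y) ≠ 0 :=
      IsFractionRing.to_map_ne_zero_of_mem_nonZeroDivisors hy
    refine ⟨algebraMap (R ⧸ p) p.ResidueField (Ideal.Quotient.mk p y), MvPolynomial.monomial v x, hy0, ?_⟩
    rw [MvPolynomial.C_mul_monomial, MvPolynomial.map_monomial, ← e, mul_div_cancel₀ _ hy0]
    rfl
  | add f g hf hg =>
    obtain ⟨c, f', hc, hf'⟩ := hf
    obtain ⟨d, g', hd, hg'⟩ := hg
    obtain ⟨x, y, hy, rfl⟩ := IsFractionRing.div_surjective (A := R ⧸ p) c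
    obtain ⟨x, rfl⟩ := Ideal.Quotient.mk_surjective x
    obtain ⟨y, rfl⟩ := Ideal.Quotient.mk_surjective y
    obtain ⟨x', y', hy', rfl⟩ := IsFractionRing.div_surjective (A := R ⧸ p) d
    obtain ⟨x', rfl⟩ := Ideal.Quotient.mk_surjective x'
    obtain ⟨y', rfl⟩ := Ideal.Quotient.mk_surjective y'
    have h1 : (algebraMap (R ⧸ p) p.ResidueField) (Ideal.Quotient.mk p y) ≠ 0 :=
      IsFractionRing.to_map_ne_zero_of_mem_nonZeroDivisors hy
    have h2 : (algebraMap (R ⧸ p) p.ResidueField) (Ideal.Quotient.mk p y') ≠ 0 :=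
      IsFractionRing.to_map_ne_zero_of_mem_nonZeroDivisors hy'
    have hx : algebraMap R p.ResidueField x ≠ 0 := fun h => hc (by
      show algebraMap (R ⧸ p) p.ResidueField (Ideal.Quotient.mk p x) / _ = 0
      rw [show algebraMap (R ⧸ p) p.ResidueField (Ideal.Quotient.mk p x) = 0 from h, zero_div])
    have hx' : algebraMap R p.ResidueField x' ≠ 0 := fun h => hd (by
      show algebraMap (R ⧸ p) p.ResidueField (Ideal.Quotient.mk p x') / _ = 0
      rw [show algebraMap (R ⧸ p) p.ResidueField (Ideal.Quotient.mk p x') = 0 from h, zero_div])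
    refine ⟨algebraMap R p.ResidueField (x * x'),
      MvPolynomial.C (y * x') * f' + MvPolynomial.C (x * y') * g', by rw [map_mul]; exact mul_ne_zero hx hx', ?_⟩
    rw [map_add (MvPolynomial.map _), map_mul (MvPolynomial.map _), map_mul (MvPolynomial.map _), ← hf', ← hg',
      MvPolynomial.map_C, MvPolynomial.map_C, ← mul_assoc, ← mul_assoc, ← map_mul MvPolynomial.C,
      ← map_mul MvPolynomial.C, mul_add]
    congr 3
    · show algebraMap R _ (x * x') = algebraMap R _ (y * x') * (algebraMap R _ x / algebraMap R _ y)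
      have : algebraMap R p.ResidueField y ≠ 0 := h1
      field_simp
      simp only [map_mul]; ring
    · show algebraMap R _ (x * x') = algebraMap R _ (x * y') * (algebraMap R _ x' / algebraMap R _ y')
      have : algebraMap R p.ResidueField y' ≠ 0 := h2
      field_simp
      simp only [map_mul]; ring

theorem exists_smul_mem_map_of_one_tmul_eq_zero (p : Ideal R) [p.IsPrime] (z : S)
    (hz : (1 : p.ResidueField) ⊗ₜ[R] z = 0) : ∃ s ∉ p, s • z ∈ p.map (algebraMap R S) := by
  letI : Algebra S (p.Fiber S) := Algebra.TensorProduct.rightAlgebra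
  have h := congrArg (Ideal.Fiber.algEquivAux₁ (S := S) p) hz
  rw [map_zero, show (1 : p.ResidueField) ⊗ₜ[R] z = algebraMap S (p.Fiber S) z from rfl,
    AlgEquiv.commutes, IsScalarTower.algebraMap_apply S (Localization (Algebra.algebraMapSubmonoid S p.primeCompl)),
    Ideal.Quotient.algebraMap_eq, Ideal.Quotient.eq_zero_iff_mem,
    IsLocalization.algebraMap_mem_map_algebraMap_iff (Algebra.algebraMapSubmonoid S p.primeCompl)] at h
  obtain ⟨m, ⟨s, hs, rfl⟩, hm⟩ := h
  exact ⟨s, hs, by rwa [Algebra.smul_def]⟩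

theorem exists_relation {n : ℕ} (φ : MvPolynomial (Fin n) R →ₐ[R] S) (d : ℕ) (hd : d < n)
    (hdim : ∀ p : PrimeSpectrum R, ringKrullDim (p.asIdeal.Fiber S) ≤ (d : WithBot ℕ∞))
    (hfin : ∀ p, (fib φ p).toRingHom.IsIntegral) :
    ∃ N : ℕ, ∀ p : PrimeSpectrum R, ∃ f, f ≠ 0 ∧ fib φ p f = 0 ∧ ∀ v ∈ f.support, ∀ i, v i < N := by
  classical
  have hloc : ∀ p : PrimeSpectrum R, ∃ (g : MvPolynomial (Fin n) R) (v : Fin n →₀ ℕ) (F : Finset R),
      g.coeff v ∉ p.asIdeal ∧ (∀ a ∈ F, a ∈ p.asIdeal) ∧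
      φ g ∈ (Ideal.span (F : Set R)).map (algebraMap R S) := by
    intro p
    have hne : ¬ Function.Injective (fib φ p) := fun hinj => by
      letI := (fib φ p).toRingHom.toAlgebra
      haveI : Algebra.IsIntegral (MvPolynomial (Fin n) p.asIdeal.ResidueField) (p.asIdeal.Fiber S) := ⟨hfin p⟩
      have h1 := GrothLib.Dim.ringKrullDim_eq_of_isIntegral
        (R := MvPolynomial (Fin n) p.asIdeal.ResidueField) (S := p.asIdeal.Fiber S) hinj
      have h2 := hdim p
      rw [h1, MvPolynomial.ringKrullDim_of_isNoetherianRing, ringKrullDim_eq_zero_of_field, zero_add,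
        Nat.card_fin, Nat.cast_le] at h2
      omega
    rw [injective_iff_map_eq_zero] at hne
    push Not at hne
    obtain ⟨f, hf0, hf⟩ := hne
    obtain ⟨c, g, hc, hg⟩ := exists_unit_mul_mem_range p.asIdeal f
    have hz : (1 : p.asIdeal.ResidueField) ⊗ₜ[R] φ g = 0 := by
      rw [← fib_map, ← hg, map_mul, hf0, mul_zero]
    obtain ⟨s, hs, hmem⟩ := exists_smul_mem_map_of_one_tmul_eq_zero p.asIdeal _ hz
    have hgne : MvPolynomial.map (algebraMap R p.asIdeal.ResidueField) g ≠ 0 := by
      rw [← hg]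
      exact mul_ne_zero (fun h => hc (MvPolynomial.C_eq_zero.1 h)) hf
    obtain ⟨v, hv⟩ := MvPolynomial.support_nonempty.mpr hgne
    rw [MvPolynomial.mem_support_iff, MvPolynomial.coeff_map, Ne, Ideal.algebraMap_residueField_eq_zero] at hv
    have hmem' : φ (MvPolynomial.C s * g) ∈ p.asIdeal.map (algebraMap R S) := by
      rwa [← MvPolynomial.smul_eq_C_mul, map_smul]
    obtain ⟨F, hF, hFm⟩ := Submodule.mem_span_finite_of_mem_span hmem'
    have hpre : ∀ x ∈ F, ∃ a ∈ p.asIdeal, algebraMap R S a = x := fun x hx => hF hx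
    choose a ha hax using hpre
    refine ⟨MvPolynomial.C s * g, v, F.attach.image (fun x => a x.1 x.2), ?_, ?_, ?_⟩
    · rw [MvPolynomial.coeff_C_mul]
      exact fun h => (p.2.mem_or_mem h).elim hs hv
    · intro b hb
      obtain ⟨x, -, rfl⟩ := Finset.mem_image.1 hb
      exact ha _ _
    · rw [Ideal.map_span]
      refine Ideal.span_mono ?_ hFm
      intro x hx
      exact ⟨a x hx, Finset.mem_image.2 ⟨⟨x, hx⟩, Finset.mem_attach _ _, rfl⟩, hax x hx⟩
  choose g v F hgv hF hmem using hloc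
  let X := PrimeSpectrum R
  let U : X → Set X := fun p => (PrimeSpectrum.basicOpen ((g p).coeff (v p)) : Set X) ∩
    ⋂ a ∈ F p, ((PrimeSpectrum.basicOpen a : Set X))ᶜ
  have hopen : ∀ p, IsOpen (WithTopology.ofTopology ⁻¹' U p : Set (WithConstructibleTopology X)) := by
    intro p
    rw [WithConstructibleTopology.isOpen_iff]
    show @IsOpen X (constructibleTopology X) (U p)
    have hb : (PrimeSpectrum.basicOpen ((g p).coeff (v p)) : Set X) ∈ constructibleTopologySubbasis X :=
      Or.inl ⟨PrimeSpectrum.isOpen_basicOpen, PrimeSpectrum.isCompact_basicOpen _⟩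
    have hc : ∀ a : R, ((PrimeSpectrum.basicOpen a : Set X))ᶜ ∈ constructibleTopologySubbasis X := fun a =>
      Or.inr ⟨PrimeSpectrum.isOpen_basicOpen.isClosed_compl, by
        rw [compl_compl]; exact PrimeSpectrum.isCompact_basicOpen a⟩
    letI : TopologicalSpace X := constructibleTopology X
    exact IsOpen.inter (TopologicalSpace.isOpen_generateFrom_of_mem hb)
      (isOpen_biInter_finset fun a _ => TopologicalSpace.isOpen_generateFrom_of_mem (hc a))
  obtain ⟨t, ht⟩ := isCompact_univ.elim_finite_subcover _ hopen fun q _ =>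
    Set.mem_iUnion.2 ⟨WithTopology.ofTopology q, hgv _, Set.mem_iInter₂.2 fun a ha h => h (hF _ a ha)⟩
  refine ⟨(t.sup fun p => (g p).totalDegree) + 1, fun q => ?_⟩
  obtain ⟨p, hp, hqp⟩ := Set.mem_iUnion₂.1 (ht (Set.mem_univ (WithTopology.toTopology _ q)))
  obtain ⟨hq1, hq2⟩ := hqp
  refine ⟨MvPolynomial.map (algebraMap R q.asIdeal.ResidueField) (g p), ?_, ?_, ?_⟩
  · intro h
    refine hq1 ?_
    have := congrArg (MvPolynomial.coeff (v p)) h
    rw [MvPolynomial.coeff_map, MvPolynomial.coeff_zero, Ideal.algebraMap_residueField_eq_zero] at this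
    exact this
  · rw [fib_map]
    have hle : Ideal.span (F p : Set R) ≤ q.asIdeal := Ideal.span_le.2 fun a ha =>
      not_not.1 fun h => Set.mem_iInter₂.1 hq2 a ha h
    have hm := Ideal.map_mono (f := algebraMap R S) hle (hmem p)
    have h0 := Ideal.mem_map_of_mem (Algebra.TensorProduct.includeRight : S →ₐ[R] q.asIdeal.Fiber S).toRingHom hm
    rw [Ideal.map_map, show (Algebra.TensorProduct.includeRight : S →ₐ[R] q.asIdeal.Fiber S).toRingHom.comp
      (algebraMap R S) = algebraMap R (q.asIdeal.Fiber S) from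
      RingHom.ext fun a => (Algebra.TensorProduct.includeRight : S →ₐ[R] q.asIdeal.Fiber S).commutes a,
      IsScalarTower.algebraMap_eq R q.asIdeal.ResidueField (q.asIdeal.Fiber S), ← Ideal.map_map,
      show q.asIdeal.map (algebraMap R q.asIdeal.ResidueField) = ⊥ from
        (Ideal.map_eq_bot_iff_le_ker _).2 fun a ha => Ideal.algebraMap_residueField_eq_zero.2 ha,
      Ideal.map_bot, Ideal.mem_bot] at h0
    exact h0
  · intro w hw i
    have hw' := MvPolynomial.support_map_subset _ _ hw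
    refine Nat.lt_succ_of_le (le_trans ?_ (Finset.le_sup (f := fun p => (g p).totalDegree) hp))
    exact (MvPolynomial.monomial_le_degreeOf i hw').trans (MvPolynomial.degreeOf_le_totalDegree _ i)

theorem exists_fibrewise_integral (d : ℕ)
    (hdim : ∀ p : PrimeSpectrum R, ringKrullDim (p.asIdeal.Fiber S) ≤ (d : WithBot ℕ∞)) :
    ∀ (n : ℕ) (φ : MvPolynomial (Fin n) R →ₐ[R] S), (∀ p, (fib φ p).toRingHom.IsIntegral) →
      ∃ ψ : MvPolynomial (Fin d) R →ₐ[R] S, ∀ p, (fib ψ p).toRingHom.IsIntegral := by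
  intro n
  induction n with
  | zero =>
    intro φ hφ
    refine ⟨MvPolynomial.aeval fun _ => 0, fun p x => ?_⟩
    obtain ⟨q, hq, hq0⟩ := hφ p x
    have e : (fib (MvPolynomial.aeval fun _ => (0 : S) : MvPolynomial (Fin d) R →ₐ[R] S) p).toRingHom.comp
        (MvPolynomial.C.comp (MvPolynomial.isEmptyRingEquiv p.asIdeal.ResidueField (Fin 0)).toRingHom) =
        (fib φ p).toRingHom := by
      refine MvPolynomial.ringHom_ext (fun c => ?_) fun i => i.elim0
      simp [fib]
      exact congrArg (· ⊗ₜ[R] (1 : S)) (MvPolynomial.constantCoeff_C _ c)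
    exact ⟨q.map (MvPolynomial.C.comp (MvPolynomial.isEmptyRingEquiv p.asIdeal.ResidueField (Fin 0)).toRingHom),
      hq.map _, by rw [Polynomial.eval₂_map, e]; exact hq0⟩
  | succ n ih =>
    intro φ hφ
    rcases Nat.lt_or_ge d (n + 1) with hd | hd
    · obtain ⟨N, hN⟩ := exists_relation φ d hd hdim hφ
      refine ih (MvPolynomial.aeval fun i => φ (MvPolynomial.X i.succ) - φ (MvPolynomial.X 0) ^ N ^ ((i : ℕ) + 1))
        fun p => ?_
      obtain ⟨f, hf, hf0, hfN⟩ := hN p
      have h := isIntegral_substitution (fun i => (1 : p.asIdeal.ResidueField) ⊗ₜ[R] φ (MvPolynomial.X i))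
        (hφ p) f hf hfN hf0
      have e : fib (MvPolynomial.aeval fun i : Fin n => φ (MvPolynomial.X i.succ) - φ (MvPolynomial.X 0) ^ N ^ ((i : ℕ) + 1)) p =
          MvPolynomial.aeval fun i : Fin n => (1 : p.asIdeal.ResidueField) ⊗ₜ[R] φ (MvPolynomial.X i.succ) -
            ((1 : p.asIdeal.ResidueField) ⊗ₜ[R] φ (MvPolynomial.X 0)) ^ N ^ ((i : ℕ) + 1) := by
        refine MvPolynomial.algHom_ext fun i => ?_
        simp only [fib, MvPolynomial.aeval_X]
        rw [TensorProduct.tmul_sub, Algebra.TensorProduct.tmul_pow, one_pow]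
      rw [e]
      exact h
    · refine ⟨φ.comp (MvPolynomial.aeval fun i : Fin d => if h : (i : ℕ) < n + 1 then MvPolynomial.X ⟨i, h⟩ else 0),
        fun p x => ?_⟩
      obtain ⟨q, hq, hq0⟩ := hφ p x
      let ι : MvPolynomial (Fin (n + 1)) p.asIdeal.ResidueField →ₐ[p.asIdeal.ResidueField]
          MvPolynomial (Fin d) p.asIdeal.ResidueField := MvPolynomial.rename (Fin.castLE hd)
      have e : (fib (φ.comp (MvPolynomial.aeval fun i : Fin d =>
          if h : (i : ℕ) < n + 1 then MvPolynomial.X ⟨i, h⟩ else 0)) p).toRingHom.comp ι.toRingHom =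
          (fib φ p).toRingHom := by
        refine MvPolynomial.ringHom_ext (fun c => ?_) fun i => ?_
        · simp [fib, ι]
        · simp [fib, ι, Fin.is_lt, Nat.lt_succ_iff.1 i.2]
      exact ⟨q.map ι.toRingHom, hq.map _, by rw [Polynomial.eval₂_map, e]; exact hq0⟩

theorem quasiFinite_of_fibrewise_integral [Algebra.FiniteType R S] {d : ℕ}
    (φ : MvPolynomial (Fin d) R →ₐ[R] S) (h : ∀ p, (fib φ p).toRingHom.IsIntegral) :
    φ.toRingHom.QuasiFinite := by
  letI := φ.toRingHom.toAlgebra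
  haveI : IsScalarTower R (MvPolynomial (Fin d) R) S := IsScalarTower.of_algebraMap_eq fun x => (φ.commutes x).symm
  haveI : Algebra.FiniteType (MvPolynomial (Fin d) R) S := Algebra.FiniteType.of_restrictScalars_finiteType R _ S
  show Algebra.QuasiFinite (MvPolynomial (Fin d) R) S
  rw [Algebra.QuasiFinite.iff_finite_comap_preimage_singleton]
  intro x
  let p : PrimeSpectrum R := PrimeSpectrum.comap (algebraMap R (MvPolynomial (Fin d) R)) x
  letI := (fib φ p).toRingHom.toAlgebra
  haveI : Algebra.IsIntegral (MvPolynomial (Fin d) p.asIdeal.ResidueField) (p.asIdeal.Fiber S) := ⟨h p⟩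
  haveI : IsScalarTower p.asIdeal.ResidueField (MvPolynomial (Fin d) p.asIdeal.ResidueField) (p.asIdeal.Fiber S) :=
    IsScalarTower.of_algebraMap_eq fun c => ((fib φ p).commutes c).symm
  haveI : Algebra.FiniteType (MvPolynomial (Fin d) p.asIdeal.ResidueField) (p.asIdeal.Fiber S) :=
    Algebra.FiniteType.of_restrictScalars_finiteType p.asIdeal.ResidueField _ _
  haveI : Module.Finite (MvPolynomial (Fin d) p.asIdeal.ResidueField) (p.asIdeal.Fiber S) :=
    Algebra.IsIntegral.finite
  have hover : ∀ Q ∈ PrimeSpectrum.comap (algebraMap (MvPolynomial (Fin d) R) S) ⁻¹' {x},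
      Q ∈ PrimeSpectrum.comap (algebraMap R S) ⁻¹' {p} := fun Q hQ => by
    have e : PrimeSpectrum.comap (algebraMap (MvPolynomial (Fin d) R) S) Q = x := hQ
    show PrimeSpectrum.comap (algebraMap R S) Q = p
    rw [IsScalarTower.algebraMap_eq R (MvPolynomial (Fin d) R) S, PrimeSpectrum.comap_comp, Function.comp_apply, e]
  let μ := MvPolynomial.map (σ := Fin d) (algebraMap R p.asIdeal.ResidueField)
  have hinj : ∀ P P' : PrimeSpectrum (MvPolynomial (Fin d) p.asIdeal.ResidueField),
      PrimeSpectrum.comap μ P = PrimeSpectrum.comap μ P' → P = P' := by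
    intro P P' e
    have key : ∀ (A B : PrimeSpectrum (MvPolynomial (Fin d) p.asIdeal.ResidueField)),
        A.asIdeal.comap μ ≤ B.asIdeal.comap μ → A.asIdeal ≤ B.asIdeal := fun A B hAB f hf => by
      obtain ⟨c, g, hc, hg⟩ := exists_unit_mul_mem_range p.asIdeal f
      have h1 : g ∈ A.asIdeal.comap μ := by
        show μ g ∈ A.asIdeal
        rw [← hg]; exact A.asIdeal.mul_mem_left _ hf
      have h2 : μ g ∈ B.asIdeal := hAB h1
      rw [← hg] at h2
      exact (Ideal.unit_mul_mem_iff_mem _ (hc.isUnit.map MvPolynomial.C)).1 h2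
    have e' := congrArg PrimeSpectrum.asIdeal e
    exact PrimeSpectrum.ext (le_antisymm (key P P' e'.le) (key P' P e'.ge))
  let E := PrimeSpectrum.preimageEquivFiber R S p
  let T : Set (PrimeSpectrum (p.asIdeal.Fiber S)) :=
    PrimeSpectrum.comap (algebraMap (MvPolynomial (Fin d) p.asIdeal.ResidueField) (p.asIdeal.Fiber S)) ⁻¹'
      (PrimeSpectrum.comap μ ⁻¹' {x})
  have hT : T.Finite := Algebra.QuasiFinite.finite_comap_preimage
    (Set.Subsingleton.finite fun P hP P' hP' => hinj P P' (hP.trans hP'.symm))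
  refine (((hT.image fun q => (E.symm q : PrimeSpectrum S)))).subset fun Q hQ => ?_
  refine ⟨E ⟨Q, hover Q hQ⟩, ?_, by simp⟩
  show PrimeSpectrum.comap μ (PrimeSpectrum.comap _ (E ⟨Q, hover Q hQ⟩)) = x
  have e : PrimeSpectrum.comap (algebraMap (MvPolynomial (Fin d) R) S) Q = x := hQ
  rw [← e]
  ext f
  show fib φ p (μ f) ∈ (E ⟨Q, hover Q hQ⟩).asIdeal ↔ φ f ∈ Q.asIdeal
  rw [fib_map]
  have hQ' : (E.symm (E ⟨Q, hover Q hQ⟩) : PrimeSpectrum S) = Q := by rw [Equiv.symm_apply_apply]
  conv_rhs => rw [← hQ']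
  rfl

theorem exists_quasiFinite [Algebra.FiniteType R S] (d : ℕ)
    (hdim : ∀ p : PrimeSpectrum R, ringKrullDim (p.asIdeal.Fiber S) ≤ (d : WithBot ℕ∞)) :
    ∃ φ : MvPolynomial (Fin d) R →ₐ[R] S, φ.toRingHom.QuasiFinite := by
  obtain ⟨n, φ, hφ⟩ := Algebra.FiniteType.iff_quotient_mvPolynomial''.1 (inferInstance : Algebra.FiniteType R S)
  have hint : ∀ p, (fib φ p).toRingHom.IsIntegral := fun p => RingHom.isIntegral_of_surjective _ fun z => by
    induction z using TensorProduct.induction_on with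
    | zero => exact ⟨0, map_zero _⟩
    | tmul c s =>
      obtain ⟨f, rfl⟩ := hφ s
      refine ⟨MvPolynomial.C c * MvPolynomial.map (algebraMap R _) f, ?_⟩
      show fib φ p _ = _
      rw [map_mul, fib_map, ← MvPolynomial.algebraMap_eq, AlgHom.commutes, Algebra.TensorProduct.algebraMap_apply]
      simp
    | add a b ha hb =>
      obtain ⟨x, hx⟩ := ha
      obtain ⟨y, hy⟩ := hb
      exact ⟨x + y, by rw [map_add, hx, hy]⟩
  obtain ⟨ψ, hψ⟩ := exists_fibrewise_integral d hdim n φ hint
  exact ⟨ψ, quasiFinite_of_fibrewise_integral ψ hψ⟩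

end GrothLib.RelNoether10
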